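import Cfsg.Agent.Spor.Rub.S.D0

set_option autoImplicit false
set_option maxRecDepth 100000000
set_option Elab.async false

namespace Cfsg.Agent.Spor.Rub.S

theorem gr3 : sub 0x8004616e (U.growI W2 [0, 1, 1, 0, 0, 1, 1] (Nat.shiftLeft 1 1)) = true := by decide +kernel

theorem sd5 : U.sends [1] 0 1 = true := by decide +kernel

theorem gr6 : sub (ones 1755) (U.growI ([1] :: W2) [0, 1, 2, 2, 1, 0, 1, 2, 3, 3, 2, 1, 0, 1, 2, 3, 3, 2, 1, 0, 1, 2, 3, 3, 2, 1, 0] (Nat.shiftLeft 1 0)) = true := by decide +kernel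

theorem gr9 : sub M8 (U.growI W2 [0, 1, 2, 2, 1, 0, 0, 1, 2, 2, 1, 0] (Nat.shiftLeft 1 4)) = true := by decide +kernel

theorem sd11 : U.sends [1, 3, 1] 0 4 = true := by decide +kernel

theorem gr12 : sub (ones 1755) (U.growI ([1, 3, 1] :: W2) [0, 1, 2, 3, 3, 2, 1, 0, 0, 1, 2, 3, 3, 2, 1, 0, 0, 1, 2, 3, 3, 2] (Nat.shiftLeft 1 0)) = true := by decide +kernel

theorem gr15 : sub M14 (U.growI W2 [0, 1, 2, 2, 1, 0, 0, 1, 2, 2, 1, 0, 0, 1, 2, 1] (Nat.shiftLeft 1 19)) = true := by decide +kernel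

theorem sd17 : U.sends [1, 3, 1, 3, 1] 0 19 = true := by decide +kernel

theorem gr18 : sub (ones 1755) (U.growI ([1, 3, 1, 3, 1] :: W2) [0, 1, 2, 3, 3, 2, 1, 0, 0, 1, 2, 3, 3, 2, 1, 0, 0, 1] (Nat.shiftLeft 1 0)) = true := by decide +kernel

theorem gr21 : sub M20 (U.growI W2 [0, 1, 2, 2, 1, 0, 0, 1, 2, 2, 1, 0, 0, 1, 2, 2] (Nat.shiftLeft 1 101)) = true := by decide +kernel

theorem sd23 : U.sends [1, 3, 1, 3, 1, 3, 1] 0 101 = true := by decide +kernel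

theorem gr24 : sub (ones 1755) (U.growI ([1, 3, 1, 3, 1, 3, 1] :: W2) [0, 1, 2, 3, 3, 2, 1, 0, 0, 1, 2, 3, 3, 2, 1, 0, 0, 1, 2] (Nat.shiftLeft 1 0)) = true := by decide +kernel

theorem ff26 : U.fixFrom 11 1755 1 = true := by decide +kernel

theorem ff27 : U.fixFrom 11 1755 3 = true := by decide +kernel

theorem ff28 : U.fixFrom 11 1755 5 = true := by decide +kernel

end Cfsg.Agent.Spor.Rub.S
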