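import Cfsg.Agent.Spor.Chk2
import Cfsg.Agent.Spor.Rub.D0

set_option autoImplicit false
set_option maxRecDepth 100000000
set_option Elab.async false
noncomputable section

namespace Cfsg.Agent.Spor.Rub.S

def W1 : List (List Nat) := [[1], [3], [5]]

def W2 : List (List Nat) := [[3], [5], [7]]

def M8 : Nat := nat_lit 0x280000080000000000020111180001100011343400003c1400021db40a0fb6c0cc0fdd7ef39e90

def M14 : Nat := nat_lit 0xc100001120a000001a002200080230000f70000808e60415064d00100770010100001841c00001d0ca51000f9a00b000980019801838f000270040003000005c0020280141b00001fa02712ddb28c229a098b1601012105b00a0d14004cc1876007b783063d059bd7748c17c716861b3600821831dc0200fbb8366807ed3a16805c0a168346830047c0c183b800fb1fafb77776d0b581ede76d81ab07ea7f6ffedeeedb417b6817fdbaf7faf7dddb41d960eee7ff7ceff7cecbcbffdf83ebffedc24bf5f0493f33f02201080000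

def M20 : Nat := nat_lit 0x7fffffffffffffffffffffffffff3effffeedf5fffffe5ffddfff7fdcffff08ffff7f719fbeaf9b2ffeff88ffefeffffe7be3ffffe2f35aefff065ff4fff67ffe67fe7c70fffd8ffbfffcfffffa3ffdfd7febe4ffffe05fd8ed224d73dd65f674e9fefedefa4ff5f2ebffb33e789ff8487cf9c2fa64288b73e838e979e4c9ff7de7ce23fdff0447c997f812c5e97fa3f5e97cb97cffb83f3e7c47ff04e0504888892f4a7e1218927e54f815809001211124be8497c002450005082224be249e00000082000820000000204000001020000000000000000000000000

def U : Tab := ⟨[n0, n1, n2, n3], [⟨0, false, 0, 0, []⟩, ⟨0, false, 0, 0, []⟩, ⟨0, true, 0, 0, []⟩, ⟨1, false, 0, 0, []⟩, ⟨1, true, 0, 0, []⟩, ⟨2, false, 0, 0, []⟩, ⟨2, true, 0, 0, []⟩, ⟨3, false, 0, 0, []⟩, ⟨3, true, 0, 0, []⟩]⟩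

end Cfsg.Agent.Spor.Rub.S
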